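import Cfsg.Agent.CosetEnum.Y322C.Data

set_option autoImplicit false
set_option maxRecDepth 100000
set_option Elab.async false

/-! Deductions for the coset table on 16 cosets (generated certificate). -/

namespace CfsgLib.CosetEnum.Y322C

def B0 : ℕ := 0x42630942714a58872e30

theorem tree0 : foldR (tree 5 tb id parN parX) 4 0 0 = B0 := by decide +kernel

theorem goodT0 : enum.Good B0 := enum.good_tree_block 4 0 _ _ enum.good_zero tree0

theorem good0 : enum.Good B0 := goodT0

def D1 : ℕ := 0xff00000000ff00000000ff00000000ff00000000ff00000000ff00000000ff00000000ff00000000ff00000000ff00000000ff00000000ff00000000ff00000000ff00000000ff00000000ff00000000ff00000000ff00000000ff0000000e0a0200000d020100000e0d0100000b0b02000008080200000e0702000008060300000b040300000d030200000c01030000070102000004010300000b0d020000090d020000080d020000020a02000009070100000507020000020602000007040200000604020000050303000003030300000103020000030202000001020100000101020000050d010000030d010000020d010000000d020000080b020000030b010000000b0200000208010000000802000000040300000602010000001200000000110000000010000000000f000000030a0200000908020000020702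

def B1 : ℕ := 0xffffffffffffffffffff

theorem step1 : runDed 5 tb id wd 15 19 6 D1 B0 = B1 := by decide +kernel

theorem good1 : enum.Good B1 :=
  enum.good_ded 6 D1 15 19 _ _ rfl rfl good0 step1

end CfsgLib.CosetEnum.Y322C
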